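import Mathlib

set_option autoImplicit false

/-!
# A finite group acting on the Cayley tree of a free group fixes a vertex

Word-norm only: the metric is `d u v = (u⁻¹ * v).norm`.  If a finite group acts on `FreeGroup X`
by maps preserving this metric and inverting no edge, then it fixes a vertex.
-/

namespace Cfsg.Agent.Lib.Helper90.LSF

open FreeGroup

variable {X : Type*} [DecidableEq X]

/-- Length of the longest common prefix of two words. -/
def cp : List (X × Bool) → List (X × Bool) → ℕ
  | a :: A, b :: B => if a = b then cp A B + 1 else 0
  | [], _ => 0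
  | _ :: _, [] => 0

theorem cp_nil_left (B : List (X × Bool)) : cp [] B = 0 := by
  cases B <;> rfl

theorem cp_nil_right (A : List (X × Bool)) : cp A [] = 0 := by
  cases A <;> rfl

theorem cp_cons_cons (a b : X × Bool) (A B : List (X × Bool)) :
    cp (a :: A) (b :: B) = if a = b then cp A B + 1 else 0 := rfl

theorem cp_le_left (A B : List (X × Bool)) : cp A B ≤ A.length := by
  induction A generalizing B with
  | nil => simp [cp_nil_left]
  | cons a A ih =>
    cases B with
    | nil => simp [cp_nil_right]
    | cons b B =>
      rw [cp_cons_cons]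
      split_ifs
      · have := ih B
        simp only [List.length_cons]
        omega
      · simp

theorem cp_take (j : ℕ) (A B : List (X × Bool)) : cp (A.take j) B = min j (cp A B) := by
  induction j generalizing A B with
  | zero => simp [cp_nil_left]
  | succ j ih =>
    cases A with
    | nil => simp [cp_nil_left]
    | cons a A =>
      cases B with
      | nil => simp [cp_nil_right]
      | cons b B =>
        simp only [List.take_succ_cons, cp_cons_cons]
        split_ifs with h
        · rw [ih]
          omega
        · simp

theorem eq_take_of_cp_eq_length (A B : List (X × Bool)) (h : cp A B = A.length) :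
    A = B.take A.length := by
  induction A generalizing B with
  | nil => simp
  | cons a A ih =>
    cases B with
    | nil => simp [cp_nil_right] at h
    | cons b B =>
      rw [cp_cons_cons] at h
      split_ifs at h with hab
      · subst hab
        simp only [List.length_cons, List.take_succ_cons]
        congr 1
        exact ih B (by simpa using h)

theorem isReduced_invRev' {L : List (X × Bool)} (h : IsReduced L) : IsReduced (invRev L) := by
  rw [isReduced_iff_reduce_eq] at h ⊢
  rw [reduce_invRev, h]

theorem isReduced_tail' {a : X × Bool} {L : List (X × Bool)} (h : IsReduced (a :: L)) :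
    IsReduced L :=
  h.infix ⟨[a], [], by simp⟩

theorem norm_mk_of_isReduced {L : List (X × Bool)} (h : IsReduced L) :
    (mk L).norm = L.length := by
  rw [FreeGroup.norm, toWord_mk, h.reduce_eq]

/-- The tree metric in terms of the longest common prefix. -/
theorem norm_inv_mul_mk (A B : List (X × Bool)) (hA : IsReduced A) (hB : IsReduced B) :
    ((mk A)⁻¹ * mk B).norm + 2 * cp A B = A.length + B.length := by
  induction A generalizing B with
  | nil =>
    rw [cp_nil_left, ← one_eq_mk]
    simp [norm_mk_of_isReduced hB]
  | cons a A ih =>
    cases B with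
    | nil =>
      rw [cp_nil_right, ← one_eq_mk, mul_one, norm_inv_eq, norm_mk_of_isReduced hA]
      simp
    | cons b B =>
      rw [cp_cons_cons]
      split_ifs with hab
      · subst hab
        have e : (mk (a :: A))⁻¹ * mk (a :: B) = (mk A)⁻¹ * mk B := by
          have h1 : mk (a :: A) = mk [a] * mk A := by rw [mul_mk]; rfl
          have h2 : mk (a :: B) = mk [a] * mk B := by rw [mul_mk]; rfl
          rw [h1, h2]
          group
        rw [e]
        have := ih B (isReduced_tail' hA) (isReduced_tail' hB)
        simp only [List.length_cons]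
        omega
      · have h1 : invRev (a :: A) = invRev A ++ [(a.1, !a.2)] := by simp [invRev]
        have hred : IsReduced (invRev (a :: A) ++ b :: B) := by
          rw [h1]
          have h2 : IsReduced (invRev A ++ [(a.1, !a.2)]) := by
            rw [← h1]; exact isReduced_invRev' hA
          have h3 : IsReduced ([(a.1, !a.2)] ++ b :: B) := by
            show IsReduced ((a.1, !a.2) :: b :: B)
            rw [isReduced_cons_cons]
            refine ⟨fun h4 => ?_, hB⟩
            have h5 : a.2 ≠ b.2 := fun h6 => hab (Prod.ext h4 h6)
            show (!a.2) = b.2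
            cases ha : a.2 <;> cases hb : b.2 <;> simp_all
          simpa using IsReduced.append_overlap h2 h3 (by simp)
        rw [inv_mk, mul_mk, norm_mk_of_isReduced hred]
        simp

/-- The vertex at distance `j` from `1` on the geodesic from `1` to `u`. -/
def pre (j : ℕ) (u : FreeGroup X) : FreeGroup X := mk (u.toWord.take j)

theorem isReduced_take (j : ℕ) (u : FreeGroup X) : IsReduced (u.toWord.take j) :=
  isReduced_toWord.infix (List.take_prefix j _).isInfix

theorem dist_pre_le (u o : FreeGroup X) (j : ℕ) (hj : j ≤ u.norm) (ho : o.norm ≤ u.norm)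
    (hou : (o⁻¹ * u).norm ≤ u.norm) : ((pre j u)⁻¹ * o).norm ≤ max j (u.norm - j) := by
  have h1 := norm_inv_mul_mk u.toWord o.toWord isReduced_toWord isReduced_toWord
  have h2 := norm_inv_mul_mk (u.toWord.take j) o.toWord (isReduced_take j u) isReduced_toWord
  rw [mk_toWord, mk_toWord] at h1
  rw [mk_toWord, cp_take] at h2
  have h3 : (u⁻¹ * o).norm = (o⁻¹ * u).norm := by
    rw [← norm_inv_eq]; simp
  have h4 : (u.toWord.take j).length = j := by
    rw [List.length_take]; exact min_eq_left hj
  have h5 := cp_le_left u.toWord o.toWord
  have hu : u.toWord.length = u.norm := rfl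
  have hol : o.toWord.length = o.norm := rfl
  unfold pre
  rw [h4] at h2
  rcases le_total j (cp u.toWord o.toWord) with h | h
  · rw [min_eq_left h] at h2
    have : ((mk (u.toWord.take j))⁻¹ * o).norm ≤ u.norm - j := by omega
    exact le_trans this (le_max_right _ _)
  · rw [min_eq_right h] at h2
    have : ((mk (u.toWord.take j))⁻¹ * o).norm ≤ j := by omega
    exact le_trans this (le_max_left _ _)

theorem eq_pre_of_le (u w : FreeGroup X) (j : ℕ) (hj : j ≤ u.norm) (hw : w.norm ≤ j)
    (hwu : (w⁻¹ * u).norm ≤ u.norm - j) : w = pre j u := by
  have h1 := norm_inv_mul_mk w.toWord u.toWord isReduced_toWord isReduced_toWord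
  rw [mk_toWord, mk_toWord] at h1
  have h2 := cp_le_left w.toWord u.toWord
  have hu : u.toWord.length = u.norm := rfl
  have hwl : w.toWord.length = w.norm := rfl
  have h3 : cp w.toWord u.toWord = w.toWord.length := by omega
  have h4 : w.toWord.length = j := by omega
  have h5 := eq_take_of_cp_eq_length _ _ h3
  rw [h4] at h5
  unfold pre
  rw [← h5, mk_toWord]

theorem norm_pre_inv_mul_pre_succ (u : FreeGroup X) (k : ℕ) (hk : k < u.norm) :
    ((pre k u)⁻¹ * pre (k + 1) u).norm = 1 := by
  have hk' : k < u.toWord.length := hk
  have h1 : u.toWord.take (k + 1) = u.toWord.take k ++ [u.toWord[k]] := by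
    rw [List.take_succ_eq_append_getElem hk']
  unfold pre
  rw [h1, ← mul_mk, inv_mul_cancel_left]
  rw [FreeGroup.norm, toWord_mk, reduce_singleton]
  rfl

/-- **Fixed point theorem** for a finite group acting on the Cayley tree of a free group by
isometries (for the word metric) without inverting an edge. -/
theorem tree_fixed_point {H : Type*} [Group H] [Finite H]
    (act : H → FreeGroup X → FreeGroup X)
    (hone : ∀ v, act 1 v = v) (hmul : ∀ g h v, act (g * h) v = act g (act h v))
    (hiso : ∀ h u v, ((act h u)⁻¹ * act h v).norm = (u⁻¹ * v).norm)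
    (hninv : ∀ h u v, (u⁻¹ * v).norm = 1 → act h u = v → act h v = u → False) :
    ∃ v, ∀ h, act h v = v := by
  classical
  -- a farthest point of the orbit of `1`
  obtain ⟨h₀, hmax⟩ := Finite.exists_max (fun h : H => (act h 1).norm)
  set u := act h₀ 1 with hu
  set R := u.norm with hR
  have hO1 : ∀ h, (act h 1).norm ≤ R := hmax
  have hinv : ∀ g v, act g⁻¹ (act g v) = v := fun g v => by
    rw [← hmul, inv_mul_cancel, hone]
  have hinv' : ∀ g v, act g (act g⁻¹ v) = v := fun g v => by
    rw [← hmul, mul_inv_cancel, hone]
  -- distances inside the orbit are at most `R`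
  have hOO : ∀ g h, ((act g 1)⁻¹ * act h 1).norm ≤ R := fun g h => by
    have := hiso g⁻¹ (act g 1) (act h 1)
    rw [hinv, ← hmul] at this
    rw [← this]
    simpa using hO1 (g⁻¹ * h)
  -- every orbit point is within `max j (R - j)` of `pre j u`
  have hclose : ∀ j, j ≤ R → ∀ h, ((pre j u)⁻¹ * act h 1).norm ≤ max j (R - j) := fun j hj h =>
    dist_pre_le u (act h 1) j hj (hO1 h) (hOO h h₀)
  -- hence so is every translate of `pre j u`
  have hclose' : ∀ j, j ≤ R → ∀ g h, ((act g (pre j u))⁻¹ * act h 1).norm ≤ max j (R - j) :=
    fun j hj g h => by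
      have := hiso g (pre j u) (act (g⁻¹ * h) 1)
      rw [← hmul, mul_inv_cancel_left] at this
      rw [this]
      exact hclose j hj _
  have hnorm_inv : ∀ a b : FreeGroup X, (a⁻¹ * b).norm = (b⁻¹ * a).norm := fun a b => by
    rw [← norm_inv_eq]; simp
  rcases Nat.even_or_odd' R with ⟨k, hk | hk⟩
  · -- even diameter: the midpoint is fixed
    refine ⟨pre k u, fun g => ?_⟩
    have hkR : k ≤ R := by omega
    have hm : max k (R - k) = k := by omega
    have h1 := hclose' k hkR g 1
    have h2 := hclose' k hkR g h₀
    rw [hone, hm] at h1
    rw [hm] at h2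
    apply eq_pre_of_le u _ k hkR
    · simpa using h1
    · have : u.norm - k = k := by omega
      rw [this]; exact h2
  · -- odd diameter: the middle edge is invariant and cannot be inverted
    have hkR : k ≤ R := by omega
    have hkR' : k + 1 ≤ R := by omega
    have hm : max k (R - k) = k + 1 := by omega
    have hm' : max (k + 1) (R - (k + 1)) = k + 1 := by omega
    have key : ∀ w : FreeGroup X, w.norm ≤ k + 1 → (w⁻¹ * u).norm ≤ k + 1 →
        w = pre k u ∨ w = pre (k + 1) u := by
      intro w hw hwu
      have h1 := norm_inv_mul_mk w.toWord u.toWord isReduced_toWord isReduced_toWord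
      rw [mk_toWord, mk_toWord] at h1
      have hul : u.toWord.length = R := rfl
      have hwl : w.toWord.length = w.norm := rfl
      by_cases hc : w.norm ≤ k
      · left
        exact eq_pre_of_le u w k hkR hc (by omega)
      · right
        exact eq_pre_of_le u w (k + 1) hkR' hw (by omega)
    have hmem : ∀ g, act g (pre k u) = pre k u ∨ act g (pre k u) = pre (k + 1) u := fun g => by
      have h1 := hclose' k hkR g 1
      have h2 := hclose' k hkR g h₀
      rw [hone, hm] at h1
      rw [hm] at h2
      exact key _ (by simpa using h1) h2
    have hmem' : ∀ g, act g (pre (k + 1) u) = pre k u ∨ act g (pre (k + 1) u) = pre (k + 1) u :=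
      fun g => by
        have h1 := hclose' (k + 1) hkR' g 1
        have h2 := hclose' (k + 1) hkR' g h₀
        rw [hone, hm'] at h1
        rw [hm'] at h2
        exact key _ (by simpa using h1) h2
    have hedge : ((pre k u)⁻¹ * pre (k + 1) u).norm = 1 :=
      norm_pre_inv_mul_pre_succ u k (by omega)
    have hne : pre k u ≠ pre (k + 1) u := fun h => by
      rw [h] at hedge; simp at hedge
    refine ⟨pre k u, fun g => ?_⟩
    rcases hmem g with h | h
    · exact h
    · exfalso
      rcases hmem' g with h' | h'
      · exact hninv g _ _ hedge h h'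
      · have : pre k u = pre (k + 1) u := by
          have := congrArg (act g⁻¹) (h.trans h'.symm)
          rwa [hinv, hinv] at this
        exact hne this

end Cfsg.Agent.Lib.Helper90.LSF
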